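import Cfsg.Agent.J4Classes.A.Seven
import Cfsg.Agent.S5569
import Cfsg.Agent.S5577

/-!
# The rows of the seven part and of the large primes
-/

set_option autoImplicit false

open Cfsg Subgroup

namespace Cfsg.Agent.J4Classes.A

variable {G : Type*} [Group G] [Finite G]

/-- A self-centralising Sylow subgroup of prime order. -/
theorem exists_gen_large {q e : ℕ} [Fact q.Prime] (hd : q ∣ Nat.card G) (hd2 : ¬ q ^ 2 ∣ Nat.card G)
    (h : ∀ U : Sylow q G, centralizer ((U : Subgroup G) : Set G) = (U : Subgroup G) ∧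
      Nat.card ↥(normalizer ((U : Subgroup G) : Set G)) = q * e) :
    ∃ x : G, orderOf x = q ∧ Nat.card ↥(centralizer ({x} : Set G)) = q ∧
      Nat.card ↥(normalizer ((zpowers x : Subgroup G) : Set G)) = e * q := by
  have hq : q.Prime := Fact.out
  obtain ⟨x, hx⟩ := exists_prime_orderOf_dvd_card' q hd
  have hfac : (Nat.card G).factorization q = 1 := by
    have hne : Nat.card G ≠ 0 := Nat.card_pos.ne'
    have h1 := (hq.pow_dvd_iff_le_factorization hne (k := 1)).1 (by rwa [pow_one])
    have h2 := mt (hq.pow_dvd_iff_le_factorization hne (k := 2)).2 hd2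
    omega
  let U : Sylow q G := Sylow.ofCard (zpowers x) (by rw [Nat.card_zpowers, hx, hfac, pow_one])
  have hU : (U : Subgroup G) = zpowers x := rfl
  obtain ⟨h1, h2⟩ := h U
  rw [hU] at h1 h2
  refine ⟨x, hx, ?_, h2.trans (mul_comm _ _)⟩
  rw [← J4Type.LargePrime.centralizer_zpowers, h1, Nat.card_zpowers, hx]

/-- Lane A of the count of classes. -/
theorem fams [IsSimpleGroup G] (hG : ¬ IsMulCommutative G) {z : G} {P : Subgroup G}
    (hJ : IsOfJankoFourTypeWith z P) : Fams z rowsA := by
  obtain ⟨p, σ, i, D⟩ := exists_sevenData hG hJ fun y hy hnc => S5569.result hG z ⟨P, hJ⟩ y hy hnc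
  obtain ⟨h7, h14, h14', h21, h28, h35, h42⟩ := fams_seven D
  have hcard := J4Type.Order.card_of_type hG ⟨z, P, hJ⟩
  obtain ⟨k23, k29, k31, k37, k43⟩ := S5577.result hG ⟨z, P, hJ⟩
  have : Fact (Nat.Prime 23) := ⟨by norm_num⟩
  have : Fact (Nat.Prime 29) := ⟨by norm_num⟩
  have : Fact (Nat.Prime 31) := ⟨by norm_num⟩
  have : Fact (Nat.Prime 37) := ⟨by norm_num⟩
  have : Fact (Nat.Prime 43) := ⟨by norm_num⟩
  obtain ⟨a, ha, ha1, ha2⟩ := exists_gen_large (q := 23) (e := 22) (by rw [hcard]; norm_num)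
    (by rw [hcard]; norm_num) k23
  obtain ⟨b, hb, hb1, hb2⟩ := exists_gen_large (q := 29) (e := 28) (by rw [hcard]; norm_num)
    (by rw [hcard]; norm_num) k29
  obtain ⟨c, hc, hc1, hc2⟩ := exists_gen_large (q := 31) (e := 10) (by rw [hcard]; norm_num)
    (by rw [hcard]; norm_num) k31
  obtain ⟨d, hd, hd1, hd2⟩ := exists_gen_large (q := 37) (e := 12) (by rw [hcard]; norm_num)
    (by rw [hcard]; norm_num) k37
  obtain ⟨f, hf, hf1, hf2⟩ := exists_gen_large (q := 43) (e := 14) (by rw [hcard]; norm_num)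
    (by rw [hcard]; norm_num) k43
  intro r hr
  simp only [rowsA, List.mem_cons, List.not_mem_nil, or_false] at hr
  rcases hr with rfl | rfl | rfl | rfl | rfl | rfl | rfl | rfl | rfl | rfl | rfl | rfl
  · exact h7
  · exact h14
  · exact h14'
  · exact h21
  · exact h28
  · exact h35
  · exact h42
  · exact fam_prime z (by norm_num) (by decide) ha ha1 ha2 [23] ![1] ![1] (by decide) (by decide) (by decide)
  · exact fam_prime z (by norm_num) (by decide) hb hb1 hb2 [29] ![1] ![1] (by decide) (by decide) (by decide)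
  · exact fam_prime z (by norm_num) (by decide) hc hc1 hc2 [31, 31, 31] ![1, 3, 9] ![1, 21, 7]
      (by decide) (by decide) (by decide)
  · exact fam_prime z (by norm_num) (by decide) hd hd1 hd2 [37, 37, 37] ![1, 2, 4] ![1, 19, 28]
      (by decide) (by decide) (by decide)
  · exact fam_prime z (by norm_num) (by decide) hf hf1 hf2 [43, 43, 43] ![1, 3, 9] ![1, 29, 24]
      (by decide) (by decide) (by decide)

end Cfsg.Agent.J4Classes.A
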