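import Cfsg.Agent.J4Classes.A.Tools
import Cfsg.Agent.J4Type.SevenMain

/-!
# The classes with a part of order seven

Each is the product of a generator of the subgroup of order seven or its inverse with an element of the
complement in its centraliser; the two generators are not conjugate.
-/

set_option autoImplicit false

open Cfsg Subgroup

namespace Cfsg.Agent.J4Classes

open J4Type

universe u

variable {G : Type u} [Group G] [Finite G] {z : G} {P : Subgroup G}

/-- The data at an element of order seven. -/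
theorem exists_sevenData [IsSimpleGroup G] (hG : ¬ IsMulCommutative G) (hJ : IsOfJankoFourTypeWith z P)
    (hcompl : ∀ y : G, orderOf y = 2 → ¬ IsConj z y → ∃ V K : Subgroup G, V ≤ centralizer ({y} : Set G) ∧
      K ≤ centralizer ({y} : Set G) ∧ centralizer ({y} : Set G) ≤ normalizer (V : Set G) ∧
      IsElementaryAbelian 2 V ∧ Nat.card ↥V = 2 ^ 11 ∧ K ⊓ V = ⊥ ∧ K ⊔ V = centralizer ({y} : Set G) ∧
      Nonempty (↥K ≃* MulAut ↥Spor.M22)) : ∃ p σ i : G, SevenData z p σ i := by
  obtain ⟨B, hM⟩ := Orbits.exists_model_janko hJ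
  obtain ⟨w, hc⟩ := exists_conf hG hJ
  have D := Base.actData hJ
  obtain ⟨σ, i, hσ, h7, hfix, hi, hiC, hi2, hσi, hiz, htn⟩ := exists_seven_invol D hM hM.linFacts hc
  obtain ⟨h84, h252, h14⟩ := seven_cards D hσ h7 hfix hi hiC hi2 hσi
  obtain ⟨-, -, -, -, hnorm⟩ := sixfold hG hJ
  obtain ⟨p, hp, hpo, hP⟩ := Base.exists_gen hJ
  have hp3 : p * p * p = 1 := Base.cube hJ hp
  have hp1 : p ≠ 1 := fun h => by rw [h, orderOf_one] at hpo; omega
  refine ⟨p, σ, i,
    { oz := hJ.1, o7 := h7, sz := D.comm_z hσ.1, si := hσi, iz := D.comm_z hi.1, p3 := hp3, p1 := hp1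
      sp := (mem_centralizer_iff.1 hσ.2 p hp).symm
      pz := D.comm_z (Base.P_le hJ hp)
      pinv := ?_, i2 := hi2, iconj := hiz, tn := htn, card84 := h84, card252 := h252, pnorm := ?_, notdvd := ?_
      centp := ?_, cent7 := h14, compl := hcompl }⟩
  · have h := D.inverts i hi hiC p hp
    rwa [inv_eq_of_mul_eq_one_right hi2] at h
  · intro g hg
    have hgM : g ∈ mSub z P := norm_seven_le D hσ h7 hfix hg.1 (by
      rw [mul_inv_eq_iff_eq_mul.2 (mem_centralizer_singleton_iff.1 hg.2)]; exact mem_zpowers σ)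
    rw [← hP]
    exact (mem_normalizer_iff.1 hgM.2 p).1 hp
  · rw [card_centralizer_z hJ]
    norm_num
  · intro g hg
    refine mem_centralizer_singleton_iff.1 (hnorm (centralizer_le_normalizer _ ?_))
    rw [hP, centralizer_zpowers_eq]
    exact mem_centralizer_singleton_iff.2 hg

variable {p σ i : G} (D : SevenData z p σ i)
include D

/-- A row of the seven part from an element of the centraliser of `σ`. -/
theorem fam_seven {s : G} {m c k : ℕ} {kz : Bool} (hs : Commute σ s) (ho : orderOf s = m)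
    (hco : Nat.Coprime 7 m) (hk7 : k % 7 = 1) (hkm : m ∣ k)
    (hkind : Even m → (IsConj z (s ^ (m / 2)) ↔ kz = true))
    (hc : Nat.card ↥(Cs σ ⊓ centralizer ({s} : Set G)) ≤ c) : Fam z (7 * m) kz [c, c] := by
  have : Fact (Nat.Prime 7) := ⟨by norm_num⟩
  have hN : Nat.card ↥(normalizer ((zpowers σ : Subgroup G) : Set G)) =
      3 * Nat.card ↥(centralizer ({σ} : Set G)) := by
    rw [D.card_norm, show Nat.card ↥(centralizer ({σ} : Set G)) = 840 from D.card_Cs]
  let ex : Fin ([c, c] : List ℕ).length → ℕ := fun i => if i.1 = 0 then 1 else 6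
  have hex : ∀ i, ex i * ex i % 7 = 1 := fun i => by dsimp [ex]; split_ifs <;> norm_num
  have hpk : ∀ i, (σ ^ ex i * s) ^ k = σ ^ ex i := fun i => by
    rw [(hs.pow_left _).mul_pow, orderOf_dvd_iff_pow_eq_one.1 (show orderOf s ∣ k by rw [ho]; exact hkm), mul_one, ← pow_mul,
      ← pow_mod_orderOf σ (ex i * k), D.o7, Nat.mul_mod, hk7, mul_one, Nat.mod_mod,
      ← D.o7, pow_mod_orderOf]
  refine ⟨fun i => σ ^ ex i * s, fun i => ⟨?_, ?_, fun he => ?_⟩, fun i j hij hcj => ?_⟩
  · have h7 : orderOf (σ ^ ex i) = 7 := by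
      refine orderOf_eq_prime (by rw [← pow_mul, mul_comm, pow_mul, D.s7, one_pow]) fun h => ?_
      have : σ ^ (ex i * ex i) = 1 := by rw [pow_mul, h, one_pow]
      rw [← pow_mod_orderOf, D.o7, hex, pow_one] at this
      have h7 := D.o7
      rw [this, orderOf_one] at h7
      omega
    rw [(hs.pow_left _).orderOf_mul_eq_mul_orderOf_of_coprime (by rw [h7, ho]; exact hco), h7, ho]
  · refine le_trans (card_le_of_le fun g hg => ?_) (hc.trans (le_of_eq ?_))
    · have hg' : Commute g (σ ^ ex i * s) := mem_centralizer_singleton_iff.1 hg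
      have h1 : Commute g (σ ^ ex i) := hpk i ▸ hg'.pow_right k
      have h2 : Commute g σ := by
        have := h1.pow_right (ex i)
        rwa [← pow_mul, ← pow_mod_orderOf σ (ex i * ex i), D.o7, hex, pow_one] at this
      refine ⟨mem_centralizer_singleton_iff.2 h2.eq, mem_centralizer_singleton_iff.2 ?_⟩
      have h3 := (h1.inv_right).mul_right hg'
      rwa [inv_mul_cancel_left] at h3
    · rcases i with ⟨_ | _ | i, hi⟩
      · rfl
      · rfl
      · simp at hi
  · have hm : Even m := (Nat.even_mul.1 he).resolve_left (by decide)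
    obtain ⟨r, rfl⟩ := hm
    rw [← hkind ⟨r, rfl⟩, show 7 * (r + r) / 2 = 7 * r by omega, show (r + r) / 2 = r by omega,
      (hs.pow_left _).mul_pow, pow_mul _ 7 r, ← pow_mul σ, mul_comm (ex i) 7, pow_mul σ, D.s7, one_pow, one_pow,
      one_mul, mul_comm 7 r, pow_mul]
    have h2 : (s ^ r) ^ 2 = 1 := by rw [← pow_mul, mul_comm, two_mul, ← ho, pow_orderOf_eq_one]
    rw [show (7 : ℕ) = 2 * 3 + 1 from rfl, pow_succ (s ^ r), pow_mul, h2, one_pow, one_mul]
  · obtain ⟨g, hg⟩ := isConj_iff.1 hcj
    have h1 : IsConj (σ ^ ex i) (σ ^ ex j) :=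
      isConj_iff.2 ⟨g, by rw [← hpk i, ← hpk j, ← conj_pow, hg]⟩
    refine not_conj_pow D.o7 hN (hex i) ?_ h1
    dsimp [ex]
    have : i.1 ≠ j.1 := fun e => hij (Fin.ext e)
    have hi := i.isLt
    have hj := j.isLt
    simp only [List.length_cons, List.length_nil] at hi hj
    split_ifs <;> omega

/-- A bound in the centraliser of `σ` for an element of the complement. -/
theorem card_le_perm {I : Subgroup G} (hI : IsInternalDirectProduct (zpowers σ) I (Cs σ))
    (φ : ↥I ≃* Equiv.Perm (Fin 5)) (c : Equiv.Perm (Fin 5)) :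
    Nat.card ↥(Cs σ ⊓ centralizer ({(φ.symm c : G)} : Set G)) ≤
      7 * Fintype.card {b : Equiv.Perm (Fin 5) // b * c = c * b} := by
  have h := card_le_prod hI.2.2.1 (le_of_eq hI.2.2.2.2.symm) φ c
  rwa [Nat.card_zpowers, D.o7] at h

/-- The rows of the seven part. -/
theorem fams_seven :
    Fam z 7 false [840, 840] ∧ Fam z 14 true [84, 84] ∧ Fam z 14 false [56, 56] ∧ Fam z 21 false [42, 42] ∧
      Fam z 28 false [28, 28] ∧ Fam z 35 false [35, 35] ∧ Fam z 42 true [42, 42] := by
  obtain ⟨I, hI, ⟨φ⟩⟩ := D.exists_complement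
  have : Fact (Nat.Prime 3) := ⟨by norm_num⟩
  have : Fact (Nat.Prime 5) := ⟨by norm_num⟩
  have : Fact (Nat.Prime 2) := ⟨Nat.prime_two⟩
  have h84 : Nat.card ↥(Cs σ ⊓ centralizer ({z} : Set G)) = 84 := by rw [inf_comm]; exact D.card84
  have h84' : ∀ y : G, y * σ = σ * y → IsConj z y → Nat.card ↥(Cs σ ⊓ centralizer ({y} : Set G)) = 84 := by
    intro y hy hc
    obtain ⟨n, hn, rfl⟩ := D.exists_norm_map hy hc
    exact (D.card_centralizer_map hn z).trans h84
  have ho3 : orderOf p = 3 := orderOf_eq_prime (by rw [pow_succ, pow_two, D.p3]) D.p1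
  have hp42 : Nat.card ↥(centralizer ({z} : Set G) ⊓ Cs σ ⊓ centralizer ({p} : Set G)) ≤ 42 := by
    have hle : centralizer ({z} : Set G) ⊓ Cs σ ⊓ centralizer ({p} : Set G) ≤
        centralizer ({z} : Set G) ⊓ Cs σ := inf_le_left
    have hd := card_dvd_of_le hle
    rw [D.card84] at hd
    have hne : Nat.card ↥(centralizer ({z} : Set G) ⊓ Cs σ ⊓ centralizer ({p} : Set G)) ≠ 84 := by
      intro h
      have hi : i ∈ centralizer ({z} : Set G) ⊓ Cs σ :=
        ⟨mem_centralizer_singleton_iff.2 D.iz.eq, mem_centralizer_singleton_iff.2 D.si.symm.eq⟩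
      rw [← eq_of_le_of_card_ge hle (by rw [D.card84, h])] at hi
      have h2 : p * p = 1 := by
        have := D.pinv
        rw [mem_centralizer_singleton_iff.1 hi.2, mul_assoc, D.i2, mul_one] at this
        exact eq_inv_iff_mul_eq_one.1 this
      exact D.p1 (by simpa [h2] using D.p3)
    obtain ⟨k, hk⟩ := hd
    rcases Nat.lt_or_ge k 2 with h | h
    · interval_cases k <;> omega
    · nlinarith
  refine ⟨?_, ?_, ?_, ?_, ?_, ?_, ?_⟩
  · exact fam_seven D (s := 1) (m := 1) (k := 8) (Commute.one_right σ) orderOf_one (by norm_num) (by norm_num)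
      (by norm_num) (fun h => absurd h (by decide))
      ((card_le_of_le inf_le_left).trans (le_of_eq D.card_Cs))
  · exact fam_seven D (s := z) (m := 2) (k := 8) D.sz D.oz (by norm_num) (by norm_num) (by norm_num)
      (fun _ => by rw [show (2 : ℕ) / 2 = 1 from rfl, pow_one]; exact iff_of_true (IsConj.refl z) rfl) h84.le
  · exact fam_seven D (s := i * z) (m := 2) (k := 8) (D.si.mul_right D.sz)
      (orderOf_eq_prime (by rw [pow_two, D.iz.symm.mul_mul_mul_comm, D.i2, D.zz, one_mul])
        (fun h => by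
          have h1 := D.card_T_t
          rw [h] at h1
          have h2 : Cs σ ⊓ centralizer ({(1 : G)} : Set G) = Cs σ :=
            inf_eq_left.2 fun g _ => mem_centralizer_singleton_iff.2 (by rw [mul_one, one_mul])
          rw [h2, D.card_Cs] at h1
          omega))
      (by norm_num) (by norm_num) (by norm_num)
      (fun _ => by rw [show (2 : ℕ) / 2 = 1 from rfl, pow_one]; exact iff_of_false D.tn (by decide)) D.card_T_t.le
  · refine fam_seven D (s := p) (m := 3) (k := 15) D.sp ho3 (by norm_num) (by norm_num) (by norm_num)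
      (fun h => absurd h (by decide)) ((card_le_of_le fun g hg => ?_).trans hp42)
    exact ⟨⟨mem_centralizer_singleton_iff.2 (D.centp g (mem_centralizer_singleton_iff.1 hg.2)), hg.1⟩, hg.2⟩
  · obtain ⟨c, hc⟩ : ∃ c : Equiv.Perm (Fin 5),
        c = Equiv.swap 0 1 * Equiv.swap 1 2 * Equiv.swap 2 3 := ⟨_, rfl⟩
    have hf : Function.Injective (I.subtype.comp φ.symm.toMonoidHom) :=
      I.subtype_injective.comp φ.symm.injective
    have hcm : ∀ d, Commute σ (φ.symm d : G) := fun d => hI.2.2.1 σ (mem_zpowers σ) _ (φ.symm d).2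
    have ho : orderOf c = 2 ^ 2 := by
      subst hc
      exact orderOf_eq_prime_pow (by decide +kernel) (by decide +kernel)
    refine fam_seven D (s := (φ.symm c : G)) (m := 4) (k := 8) (hcm c)
      (((orderOf_injective _ hf c)).trans ho) (by norm_num) (by norm_num) (by norm_num) (fun _ => ?_)
      ((card_le_perm D hI φ c).trans (le_of_eq (by subst hc; decide +kernel)))
    rw [show (φ.symm c : G) ^ (4 / 2) = (φ.symm (c ^ 2) : G) by rw [map_pow, coe_pow]]
    refine iff_of_false (fun hz => ?_) (by simp)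
    have h1 := h84' _ (hcm _).symm.eq hz
    have h2 := card_le_perm D hI φ (c ^ 2)
    have h3 : Fintype.card {b : Equiv.Perm (Fin 5) // b * c ^ 2 = c ^ 2 * b} = 8 := by
      subst hc; decide +kernel
    omega
  · have hf : Function.Injective (I.subtype.comp φ.symm.toMonoidHom) :=
      I.subtype_injective.comp φ.symm.injective
    exact fam_seven D (s := (φ.symm (finRotate 5) : G)) (m := 5) (k := 15)
      (hI.2.2.1 σ (mem_zpowers σ) _ (φ.symm _).2)
      ((orderOf_injective _ hf _).trans (orderOf_eq_prime (by decide +kernel) (by decide +kernel)))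
      (by norm_num) (by norm_num) (by norm_num) (fun h => absurd h (by decide))
      ((card_le_perm D hI φ _).trans (le_of_eq (by decide +kernel)))
  · have hzp : Commute z p := (show Commute p z from D.pz).symm
    refine fam_seven D (s := z * p) (m := 6) (k := 36) (D.sz.mul_right D.sp)
      (by rw [hzp.orderOf_mul_eq_mul_orderOf_of_coprime (by rw [D.oz, ho3]; norm_num), D.oz, ho3])
      (by norm_num) (by norm_num) (by norm_num) (fun _ => ?_)
      ((card_le_of_le fun g hg => ?_).trans hp42)
    · rw [show (6 : ℕ) / 2 = 3 from rfl, hzp.mul_pow, ← ho3, pow_orderOf_eq_one, mul_one, ho3, pow_succ,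
        pow_two, D.zz, one_mul]
      exact iff_of_true (IsConj.refl z) rfl
    · have h4 : (z * p) ^ 4 = p := by
        rw [hzp.mul_pow, show (4 : ℕ) = 2 * 2 from rfl, pow_mul z, pow_two z, D.zz, one_pow, one_mul,
          show (2 * 2 : ℕ) = 3 + 1 from rfl, pow_succ p, ← ho3, pow_orderOf_eq_one, one_mul]
      have hgp : g * p = p * g := by
        rw [← h4]
        exact ((show Commute g (z * p) from mem_centralizer_singleton_iff.1 hg.2).pow_right 4).eq
      exact ⟨⟨mem_centralizer_singleton_iff.2 (D.centp g hgp), hg.1⟩, mem_centralizer_singleton_iff.2 hgp⟩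

end Cfsg.Agent.J4Classes
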