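import Cfsg.Agent.J4Classes.Defs
import Mathlib.GroupTheory.Perm.Basic
import Mathlib.GroupTheory.NoncommCoprod
import Mathlib.GroupTheory.Index
import Mathlib.Tactic

/-!
# Powers of an element with a known centraliser and normaliser

Powers of an element of prime order conjugate in the group are conjugate in the normaliser of the subgroup it
generates, so their exponents differ by a root of unity of order dividing the index of the centraliser.
-/

set_option autoImplicit false

open Subgroup

namespace Cfsg.Agent.J4Classes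

variable {G : Type*} [Group G]

/-- Iterating a conjugation of powers. -/
theorem conj_pow_iter {g x : G} {a b : ℕ} (h : g * x ^ a * g⁻¹ = x ^ b) :
    ∀ k : ℕ, g ^ k * x ^ (a ^ k) * (g ^ k)⁻¹ = x ^ (b ^ k)
  | 0 => by simp
  | k + 1 => by
    have ih := conj_pow_iter h k
    calc g ^ (k + 1) * x ^ (a ^ (k + 1)) * (g ^ (k + 1))⁻¹
        = g * (g ^ k * (x ^ (a ^ k)) ^ a * (g ^ k)⁻¹) * g⁻¹ := by
          rw [← pow_mul, ← pow_succ, pow_succ' g]; group
      _ = g * (g ^ k * x ^ (a ^ k) * (g ^ k)⁻¹) ^ a * g⁻¹ := by rw [conj_pow]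
      _ = (g * x ^ a * g⁻¹) ^ (b ^ k) := by rw [ih, ← pow_mul, mul_comm, pow_mul, conj_pow]
      _ = x ^ (b ^ (k + 1)) := by rw [h, ← pow_mul, ← pow_succ']

/-- A power of an element of the normaliser of `⟨x⟩` by the index of the centraliser centralises `x`. -/
theorem pow_commute [Finite G] {x g : G} {e : ℕ} (hg : g * x * g⁻¹ ∈ zpowers x)
    (hN : Nat.card ↥(normalizer ((zpowers x : Subgroup G) : Set G)) =
      e * Nat.card ↥(centralizer ({x} : Set G))) :
    g ^ e * x = x * g ^ e := by
  set N := normalizer ((zpowers x : Subgroup G) : Set G) with hNdef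
  have hmem : ∀ n : G, n * x * n⁻¹ ∈ zpowers x → n ∈ N := by
    intro n hn
    have hle : (zpowers x).map (MulAut.conj n).toMonoidHom = zpowers x := by
      refine eq_of_le_of_card_ge ?_ (le_of_eq (card_map_of_injective (MulAut.conj n).injective).symm)
      rw [MonoidHom.map_zpowers, zpowers_le]
      exact hn
    rw [hNdef, mem_normalizer_iff]
    intro w
    constructor
    · exact fun hw => hle ▸ ⟨w, hw, rfl⟩
    · intro hw
      rw [← hle] at hw
      obtain ⟨y, hy, hyw⟩ := hw
      rwa [← mul_left_cancel (mul_right_cancel (show n * y * n⁻¹ = n * w * n⁻¹ from hyw))]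
  have hgN := hmem g hg
  set C := centralizer ({x} : Set G) with hC
  have hCN : C ≤ N := fun c hc => hmem c (by
    rw [mul_inv_eq_iff_eq_mul.2 (mem_centralizer_singleton_iff.1 hc)]
    exact mem_zpowers x)
  have hn : (C.subgroupOf N).Normal := by
    refine ⟨fun c hc n => ?_⟩
    rw [mem_subgroupOf] at hc ⊢
    have h1 : (n : G)⁻¹ * x * n ∈ zpowers x := by
      have := (mem_normalizer_iff.1 (inv_mem n.2) x).1 (mem_zpowers x)
      rwa [inv_inv] at this
    obtain ⟨k, hk⟩ := mem_zpowers_iff.1 h1
    have h2 : Commute (c : G) (x ^ k) := (show Commute (c : G) x from mem_centralizer_singleton_iff.1 hc).zpow_right k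
    refine mem_centralizer_singleton_iff.2 ?_
    show (n : G) * c * (n : G)⁻¹ * x = x * ((n : G) * c * (n : G)⁻¹)
    rw [show (n : G) * c * (n : G)⁻¹ * x = (n : G) * (c * ((n : G)⁻¹ * x * n)) * (n : G)⁻¹ by group, ← hk, h2.eq, hk]
    group
  have hidx : (C.subgroupOf N).index = e := by
    have h := (C.subgroupOf N).card_mul_index
    rw [Nat.card_congr (subgroupOfEquivOfLe hCN).toEquiv, hN, mul_comm e] at h
    exact Nat.eq_of_mul_eq_mul_left Nat.card_pos h
  have := (C.subgroupOf N).pow_index_mem ⟨g, hgN⟩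
  rw [hidx, mem_subgroupOf, coe_pow] at this
  exact mem_centralizer_singleton_iff.1 this

/-- Powers of `x` conjugate in the group have exponents with equal `e`-th powers. -/
theorem not_conj_pow [Finite G] {x : G} {p e a a' b : ℕ} (hx : orderOf x = p)
    (hN : Nat.card ↥(normalizer ((zpowers x : Subgroup G) : Set G)) =
      e * Nat.card ↥(centralizer ({x} : Set G)))
    (ha : a * a' % p = 1) (hab : a ^ e % p ≠ b ^ e % p) : ¬ IsConj (x ^ a) (x ^ b) := by
  intro hc
  obtain ⟨g, hg⟩ := isConj_iff.1 hc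
  have h1 : g * x * g⁻¹ = x ^ (b * a') := by
    conv_lhs => rw [show x = x ^ (a * a') by rw [← pow_mod_orderOf x (a * a'), hx, ha, pow_one]]
    rw [pow_mul, ← conj_pow, hg, ← pow_mul]
  have h2 := pow_commute (g := g) (h1 ▸ npow_mem_zpowers x _) hN
  have h3 := conj_pow_iter hg e
  rw [mul_inv_eq_iff_eq_mul, ((show Commute (g ^ e) x from h2).pow_right _).eq] at h3
  exact hab (hx ▸ pow_eq_pow_iff_modEq.1 (mul_right_cancel h3))

/-- The classes in a cyclic subgroup of prime order which is its own centraliser. -/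
theorem fam_prime [Finite G] (z : G) {x : G} {p e : ℕ} (hp : p.Prime) (hp2 : ¬ Even p) (hx : orderOf x = p)
    (hC : Nat.card ↥(centralizer ({x} : Set G)) = p)
    (hN : Nat.card ↥(normalizer ((zpowers x : Subgroup G) : Set G)) = e * p) (cs : List ℕ)
    (a a' : Fin cs.length → ℕ) (hcs : ∀ i, cs.get i = p) (ha : ∀ i, a i * a' i % p = 1)
    (hab : ∀ i j, i ≠ j → a i ^ e % p ≠ a j ^ e % p) : Fam z p false cs := by
  have : Fact p.Prime := ⟨hp⟩
  refine ⟨fun i => x ^ a i, fun i => ?_, fun i j hij =>
    not_conj_pow hx (hN.trans (by rw [hC])) (ha i) (hab i j hij)⟩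
  have hinv : (x ^ a i) ^ a' i = x := by
    rw [← pow_mul, ← pow_mod_orderOf x (a i * a' i), hx, ha, pow_one]
  refine ⟨?_, ?_, fun he => absurd he hp2⟩
  · refine orderOf_eq_prime ?_ fun h => ?_
    · rw [← pow_mul, mul_comm, pow_mul, ← hx, pow_orderOf_eq_one, one_pow]
    · rw [show x ^ a i = 1 from h, one_pow] at hinv
      rw [← hinv, orderOf_one] at hx
      exact hp.ne_one hx.symm
  · rw [hcs, ← hC]
    refine card_le_of_le fun g hg => mem_centralizer_singleton_iff.2 ?_
    rw [← hinv]
    exact ((show Commute g (x ^ a i) from mem_centralizer_singleton_iff.1 hg).pow_right _).eq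

/-- The centraliser of `s` in an internal direct product, through an isomorphism of the second factor. -/
theorem card_le_prod [Finite G] {H : Type*} [Group H] [Fintype H] [DecidableEq H] {S I C : Subgroup G}
    (hcomm : ∀ a ∈ S, ∀ b ∈ I, a * b = b * a) (hC : C ≤ S ⊔ I) (φ : ↥I ≃* H) (c : H) :
    Nat.card ↥(C ⊓ centralizer ({(φ.symm c : G)} : Set G)) ≤
      Nat.card ↥S * Fintype.card {b : H // b * c = c * b} := by
  rw [← Nat.card_eq_fintype_card, ← Nat.card_prod]
  let f : ↥S × {b : H // b * c = c * b} → G := fun a => (a.1 : G) * (φ.symm a.2.1 : G)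
  refine (Nat.card_mono (Set.toFinite (Set.range f)) ?_).trans (Finite.card_range_le f)
  rintro g ⟨hg, hgc⟩
  have hcomm' : ∀ (a : S) (b : I), Commute (S.subtype a) (I.subtype b) := fun a b => hcomm a a.2 b b.2
  have hrange := MonoidHom.noncommCoprod_range S.subtype I.subtype hcomm'
  simp only [range_subtype] at hrange
  have hmem : g ∈ (MonoidHom.noncommCoprod S.subtype I.subtype hcomm').range := hrange.ge (hC hg)
  obtain ⟨⟨a, b⟩, hab⟩ := hmem
  have hab' : (a : G) * (b : G) = g := hab
  refine ⟨(a, ⟨φ b, ?_⟩), by simp [f, hab']⟩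
  have h := mem_centralizer_singleton_iff.1 hgc
  rw [← hab', mul_assoc, ← mul_assoc _ (a : G), ← hcomm a a.2 _ (φ.symm c).2, mul_assoc] at h
  have h' : b * φ.symm c = φ.symm c * b := Subtype.ext (mul_left_cancel h)
  simpa using congrArg φ h'

end Cfsg.Agent.J4Classes
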